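import Mathlib.RingTheory.Etale.Kaehler
import Mathlib.RingTheory.Smooth.Kaehler
import Mathlib.RingTheory.Kaehler.Polynomial
import Mathlib.RingTheory.Localization.BaseChange
import Mathlib.Algebra.Module.Projective

/-!
Stable independence of the conormal module of a presentation.
-/

universe u

set_option backward.isDefEq.respectTransparency false

open TensorProduct

namespace Groth.Agent.CotStable1

open Algebra

section Chase

variable {S C V C' V' : Type u} [CommRing S] [AddCommGroup C] [Module S C] [AddCommGroup V]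
  [Module S V] [AddCommGroup C'] [Module S C'] [AddCommGroup V'] [Module S V']

/-- Homotopy equivalent two-term complexes `C → V`, `C' → V'` have `C ⊕ V' ≅ C' ⊕ V`. -/
theorem nonempty_prod_equiv_of_homotopy [Module.Projective S V'] (d : C →ₗ[S] V) (d' : C' →ₗ[S] V')
    (f₁ : C →ₗ[S] C') (f₀ : V →ₗ[S] V') (g₁ : C' →ₗ[S] C) (g₀ : V' →ₗ[S] V)
    (hf : f₀ ∘ₗ d = d' ∘ₗ f₁) (hg : g₀ ∘ₗ d' = d ∘ₗ g₁)
    (h : V →ₗ[S] C) (h' : V' →ₗ[S] C')
    (h₁ : g₁ ∘ₗ f₁ - LinearMap.id = h ∘ₗ d) (h₀ : g₀ ∘ₗ f₀ - LinearMap.id = d ∘ₗ h)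
    (h₁' : f₁ ∘ₗ g₁ - LinearMap.id = h' ∘ₗ d') (h₀' : f₀ ∘ₗ g₀ - LinearMap.id = d' ∘ₗ h') :
    Nonempty ((C × V') ≃ₗ[S] (C' × V)) := by
  let ι : C →ₗ[S] C' × V := f₁.prod d
  let π : C' × V →ₗ[S] V' := f₀ ∘ₗ LinearMap.snd S C' V - d' ∘ₗ LinearMap.fst S C' V
  have e1 : ∀ c, g₁ (f₁ c) - c = h (d c) := fun c => LinearMap.congr_fun h₁ c
  have e0 : ∀ v, g₀ (f₀ v) - v = d (h v) := fun v => LinearMap.congr_fun h₀ v
  have e1' : ∀ c, f₁ (g₁ c) - c = h' (d' c) := fun c => LinearMap.congr_fun h₁' c
  have e0' : ∀ v, f₀ (g₀ v) - v = d' (h' v) := fun v => LinearMap.congr_fun h₀' v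
  have ef : ∀ c, f₀ (d c) = d' (f₁ c) := fun c => LinearMap.congr_fun hf c
  have eg : ∀ c, g₀ (d' c) = d (g₁ c) := fun c => LinearMap.congr_fun hg c
  have hπ : Function.Surjective π := fun v =>
    ⟨(h' v, g₀ v), by simp [π, ← e0']⟩
  have hπι : ∀ c, π (ι c) = 0 := fun c => by simp [π, ι, ef]
  have hex : ∀ x, π x = 0 → ∃ c, ι c = x := by
    rintro ⟨c', s⟩ hx
    have hx' : f₀ s = d' c' := by simpa [π, sub_eq_zero] using hx
    let c₁ := g₁ c' - h s
    have hc₁ : d c₁ = s := by
      rw [map_sub, ← eg, ← hx', ← e0, sub_sub_cancel]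
    let c'' := c' - f₁ c₁
    have hc'' : d' c'' = 0 := by rw [map_sub, ← ef, hc₁, hx', sub_self]
    have hfg : f₁ (g₁ c'') = c'' := by
      rw [← sub_eq_zero, e1', hc'', map_zero]
    have hdg : d (g₁ c'') = 0 := by rw [← eg, hc'', map_zero]
    refine ⟨c₁ + g₁ c'', Prod.ext ?_ ?_⟩
    · change f₁ (c₁ + g₁ c'') = c'
      rw [map_add, hfg, add_sub_cancel]
    · change d (c₁ + g₁ c'') = s
      rw [map_add, hc₁, hdg, add_zero]
  have hι : Function.Injective ι := by
    rw [injective_iff_map_eq_zero]
    intro c hc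
    have h1 : f₁ c = 0 := congrArg Prod.fst hc
    have h2 : d c = 0 := congrArg Prod.snd hc
    have := e1 c
    rw [h1, map_zero, h2, map_zero, zero_sub, neg_eq_zero] at this
    exact this
  obtain ⟨σ, hσ⟩ := Module.projective_lifting_property π LinearMap.id hπ
  have hσ' : ∀ v, π (σ v) = v := fun v => LinearMap.congr_fun hσ v
  refine ⟨LinearEquiv.ofBijective (ι.coprod σ) ⟨?_, fun x => ?_⟩⟩
  · rw [injective_iff_map_eq_zero]
    rintro ⟨c, v⟩ hcv
    have hv : v = 0 := by
      have := congrArg π hcv
      rwa [LinearMap.coprod_apply, map_add, hπι, hσ', zero_add, map_zero] at this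
    subst hv
    rw [LinearMap.coprod_apply, map_zero, add_zero] at hcv
    exact Prod.ext (hι (hcv.trans (map_zero ι).symm)) rfl
  · obtain ⟨c, hc⟩ := hex (x - σ (π x)) (by rw [map_sub, hσ', sub_self])
    exact ⟨(c, π x), by rw [LinearMap.coprod_apply, hc, sub_add_cancel]⟩

end Chase

variable {R S : Type u} [CommRing R] [CommRing S] [Algebra R S]

/-- Formally smooth presentations have stably isomorphic conormal modules. -/
theorem nonempty_cotangent_prod (P Q : Extension.{u} R S) [FormallySmooth R P.Ring]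
    [FormallySmooth R Q.Ring] [Module.Projective S Q.CotangentSpace] :
    Nonempty ((P.Cotangent × Q.CotangentSpace) ≃ₗ[S] (Q.Cotangent × P.CotangentSpace)) := by
  let eP := LinearEquiv.ofBijective _ (Extension.Cotangent.map_toInfinitesimal_bijective P)
  let eQ := LinearEquiv.ofBijective _ (Extension.Cotangent.map_toInfinitesimal_bijective Q)
  let vP := LinearEquiv.ofBijective _ (Extension.CotangentSpace.map_toInfinitesimal_bijective P)
  let vQ := LinearEquiv.ofBijective _ (Extension.CotangentSpace.map_toInfinitesimal_bijective Q)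
  haveI : Module.Projective S Q.infinitesimal.CotangentSpace := Module.Projective.of_equiv vQ
  let f := Extension.homInfinitesimal P Q
  let g := Extension.homInfinitesimal Q P
  have h1 := Extension.Cotangent.map_sub_map (g.comp f) (Extension.Hom.id _)
  have h0 := Extension.CotangentSpace.map_sub_map (g.comp f) (Extension.Hom.id _)
  have h1' := Extension.Cotangent.map_sub_map (f.comp g) (Extension.Hom.id _)
  have h0' := Extension.CotangentSpace.map_sub_map (f.comp g) (Extension.Hom.id _)
  rw [Extension.Cotangent.map_comp, Extension.Cotangent.map_id] at h1 h1'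
  rw [Extension.CotangentSpace.map_comp, Extension.CotangentSpace.map_id] at h0 h0'
  obtain ⟨e⟩ := nonempty_prod_equiv_of_homotopy P.infinitesimal.cotangentComplex
    Q.infinitesimal.cotangentComplex (Extension.Cotangent.map f) (Extension.CotangentSpace.map f)
    (Extension.Cotangent.map g) (Extension.CotangentSpace.map g)
    (Extension.CotangentSpace.map_comp_cotangentComplex f)
    (Extension.CotangentSpace.map_comp_cotangentComplex g) _ _ h1 h0 h1' h0'
  exact ⟨(eP.prodCongr vQ).trans (e.trans (eQ.prodCongr vP).symm)⟩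

/-- The cotangent space of a polynomial presentation is free. -/
theorem nonempty_cotangentSpace_equiv (n : ℕ) (α : MvPolynomial (Fin n) R →ₐ[R] S)
    (hα : Function.Surjective α) :
    Nonempty ((Extension.ofSurjective α hα).CotangentSpace ≃ₗ[S] (Fin n → S)) :=
  letI : Algebra (MvPolynomial (Fin n) R) S := α.toRingHom.toAlgebra
  ⟨((KaehlerDifferential.mvPolynomialBasis R (Fin n)).baseChange S).equivFun⟩

section Localization

variable (T : Type u) [CommRing T] [Algebra R T] [Algebra S T] [IsScalarTower R S T]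

/-- Localising a formally smooth presentation. -/
theorem exists_localized_presentation (P : Extension.{u} R S) [FormallySmooth R P.Ring]
    (M : Submonoid S) [IsLocalization M T] :
    ∃ Q : Extension.{u} R T, FormallySmooth R Q.Ring ∧
      Nonempty (T ⊗[S] P.Cotangent ≃ₗ[T] Q.Cotangent) ∧
      Nonempty (T ⊗[S] P.CotangentSpace ≃ₗ[T] Q.CotangentSpace) := by
  let M' := M.comap (algebraMap P.Ring S)
  let fQ : Localization M' →ₐ[R] T := IsLocalization.liftAlgHom (M := M')
    (f := (IsScalarTower.toAlgHom R S T).comp (IsScalarTower.toAlgHom R P.Ring S)) (fun ⟨y, hy⟩ ↦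
    by simpa using IsLocalization.map_units T ⟨algebraMap P.Ring S y, hy⟩)
  let Q : Extension R T := .ofSurjective fQ (by
    intro x
    obtain ⟨x, ⟨s, hs⟩, rfl⟩ := IsLocalization.exists_mk'_eq M x
    obtain ⟨x, rfl⟩ := P.algebraMap_surjective x
    obtain ⟨s, rfl⟩ := P.algebraMap_surjective s
    refine ⟨IsLocalization.mk' _ x ⟨s, show s ∈ M' from hs⟩, ?_⟩
    simp only [fQ, IsLocalization.coe_liftAlgHom, AlgHom.toRingHom_eq_coe]
    rw [IsLocalization.lift_mk'_spec]
    simp)
  let f : P.Hom Q :=
  { toRingHom := algebraMap P.Ring (Localization M')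
    toRingHom_algebraMap x := (IsScalarTower.algebraMap_apply R P.Ring (Localization M') _).symm
    algebraMap_toRingHom x := @IsLocalization.lift_eq .. }
  haveI : FormallySmooth P.Ring (Localization M') := .of_isLocalization M'
  haveI hQ : FormallySmooth R Q.Ring := .comp R P.Ring (Localization M')
  letI : Algebra P.Ring Q.Ring := (inferInstance : Algebra P.Ring (Localization M'))
  letI := ((algebraMap S T).comp (algebraMap P.Ring S)).toAlgebra
  letI := fQ.toRingHom.toAlgebra
  haveI : IsScalarTower P.Ring S T := .of_algebraMap_eq' rfl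
  haveI : IsScalarTower P.Ring (Localization M') T :=
    .of_algebraMap_eq fun r ↦ (f.algebraMap_toRingHom r).symm
  haveI : IsLocalizedModule M' (IsScalarTower.toAlgHom P.Ring S T).toLinearMap := by
    rw [isLocalizedModule_iff_isLocalization]
    convert! ‹IsLocalization M T› using 1
    exact Submonoid.map_comap_eq_of_surjective P.algebraMap_surjective _
  have H₁ : f.toRingHom.FormallyEtale :=
    RingHom.formallyEtale_algebraMap.mpr
      (FormallyEtale.of_isLocalization (M := M') (Rₘ := Localization M'))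
  refine ⟨Q, hQ, ⟨Extension.tensorCotangent f rfl ?_⟩,
    ⟨Extension.tensorCotangentSpaceOfFormallyEtale f H₁⟩⟩
  let F : P.ker →ₗ[P.Ring] RingHom.ker fQ := f.mapKer rfl
  refine (isLocalizedModule_iff_isBaseChange M' (Localization M') F).mp ?_
  have : (LinearMap.ker <| Algebra.linearMap P.Ring S).localized' (Localization M') M'
      (Algebra.linearMap P.Ring (Localization M')) = RingHom.ker fQ := by
    rw [LinearMap.localized'_ker_eq_ker_localizedMap (Localization M') M'
      (Algebra.linearMap P.Ring (Localization M'))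
      (f' := (IsScalarTower.toAlgHom P.Ring S T).toLinearMap)]
    ext x
    obtain ⟨x, ⟨s, hs⟩, rfl⟩ := IsLocalization.exists_mk'_eq M' x
    simp only [LinearMap.mem_ker, LinearMap.extendScalarsOfIsLocalization_apply', RingHom.mem_ker,
      IsLocalization.coe_liftAlgHom, AlgHom.toRingHom_eq_coe, IsLocalization.lift_mk'_spec,
      RingHom.coe_coe, AlgHom.coe_comp, IsScalarTower.coe_toAlgHom', Function.comp_apply,
      mul_zero, fQ]
    have : IsLocalization.mk' (Localization M') x ⟨s, hs⟩ =
        IsLocalizedModule.mk' (Algebra.linearMap P.Ring (Localization M')) x ⟨s, hs⟩ := by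
      rw [IsLocalization.mk'_eq_iff_eq_mul, mul_comm, ← Algebra.smul_def, ← Submonoid.smul_def,
        IsLocalizedModule.mk'_cancel']
      rfl
    simp [this, ← IsScalarTower.algebraMap_apply]
  have : F = ((LinearEquiv.ofEq _ _ this).restrictScalars P.Ring).toLinearMap ∘ₗ
    P.ker.toLocalized' (Localization M') M' (Algebra.linearMap P.Ring (Localization M')) := by
    ext; rfl
  rw [this]
  exact IsLocalizedModule.of_linearEquiv _ _ _

end Localization

end Groth.Agent.CotStable1
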